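import Groth.Agent.AlgGrp.K412.Unip
import Groth.Agent.AlgGrp.K412.MachB
import Groth.Agent.AlgGrp.K414.UnipTor
import Groth.Agent.Sga3C.GeomRedPerf
import Groth.Agent.Grpsch.AbBC
import Groth.Agent.S11936
import Groth.Agent.Agf.H614.FieldGlue

/-!
# Specialization of unipotent subgroups over a discrete valuation ring with perfect residue field
-/

set_option autoImplicit false
universe u

open CategoryTheory CategoryTheory.Limits AlgebraicGeometry MonObj MonoidalCategory
  CartesianMonoidalCategory GrpObj

namespace AlgGrp.K202.SpecUnip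

open Groth.Agent K412 K412.Stage K412.Tower K412.Machine Sga7.H116.L1
open Groth.Agent.Sga3B.RedIso (und)

/-- The reduced subgroup over a perfect field. -/
theorem exists_reduced {k : Type u} [Field k] [PerfectField k] (N : Over (Spec (CommRingCat.of k))) [GrpObj N]
    [LocallyOfFiniteType N.hom] :
    ∃ (D : Over (Spec (CommRingCat.of k))) (_ : GrpObj D) (d : D ⟶ N), IsMonHom d ∧
      IsClosedImmersion d.left ∧ Surjective d.left ∧ Smooth D.hom := by
  let I : N.left.IdealSheafData := Scheme.IdealSheafData.vanishingIdeal ⊤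
  let D : Over (Spec (CommRingCat.of k)) := Over.mk (I.subschemeι ≫ N.hom)
  let d : D ⟶ N := Over.homMk I.subschemeι rfl
  have hd : IsClosedImmersion d.left := inferInstanceAs (IsClosedImmersion I.subschemeι)
  have hD : IsReduced D.left := Ega1.ReducedSub.isReduced_subscheme_vanishingIdeal _
  have hr : Set.range d.left = Set.univ := by
    change Set.range I.subschemeι = _
    rw [Scheme.IdealSheafData.range_subschemeι]
    simp [I]
  have hsurj : Surjective d.left := ⟨fun x => by
    have : x ∈ Set.range d.left := by rw [hr]; trivial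
    exact this⟩
  have hlft : LocallyOfFiniteType D.hom :=
    inferInstanceAs (LocallyOfFiniteType (I.subschemeι ≫ N.hom))
  have hmono : Mono d := mono_of_closed d
  obtain ⟨h1, h2, h3⟩ := Groth.Agent.S11936.result k N D d
  obtain ⟨inst, hmon⟩ := Groth.Agent.Sga3C.SubGrp.exists_grpObj_of_mono d h1 h3 h2
  refine ⟨D, inst, d, hmon, hd, hsurj, ?_⟩
  have : GeometricallyReduced D.hom :=
    Groth.Agent.Sga3C.GeomRedPerf.geometricallyReduced_of_isReduced (X := D.left) D.hom
  exact Groth.Agent.Grpsch.AbBC.smooth_hom D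

/-- Absence of subtori descends along extensions of fields. -/
theorem hasNoSubtorus_of_bc {k K : Type u} [Field k] [Field K] (θ : k →+* K)
    (N : Over (Spec (CommRingCat.of k))) [GrpObj N] (h : Red.HasNoSubtorus K (Red.bc (sp θ) N)) :
    Red.HasNoSubtorus k N := by
  intro T _ j _ _ hT
  have h1 := h (Red.bc (sp θ) T) ((Over.pullback (sp θ)).map j) (Sga3B.TorusBc.isTorus_bc (sp θ) hT)
  have : Surjective (sp θ) := Groth.Agent.Agf.H614.FieldGlue.surjective_spec_field (sp θ)
  have : Flat (sp θ) := Groth.Agent.Agf.H614.FieldGlue.flat_of_spec_field (sp θ)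
  exact K540.NoTor.isTrivialGrp_of_bc (sp θ) h1

theorem dim_surj {k : Type u} [Field k] {D N : Over (Spec (CommRingCat.of k))} (d : D ⟶ N)
    [IsClosedImmersion d.left] [Surjective d.left] :
    topologicalKrullDim ↥D.left = topologicalKrullDim ↥N.left := by
  have h : Topology.IsClosedEmbedding d.left := d.left.isClosedEmbedding
  have h2 : IsHomeomorph d.left := (isHomeomorph_iff_continuous_isClosedMap_bijective).2
    ⟨d.left.continuous, h.isClosedMap, h.injective, d.left.surjective⟩
  exact IsHomeomorph.topologicalKrullDim_eq _ h2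

/-- The base change of a group scheme with connected fibres to a field is connected. -/
theorem connectedSpace_bc_of_fibre {S : Scheme.{u}} (N : Over S) [GrpObj N] {k : Type u} [Field k]
    (x : Spec (CommRingCat.of k) ⟶ S)
    (h : ∀ s : S, _root_.IsConnected (N.hom.base ⁻¹' {s})) : ConnectedSpace (Red.bc x N).left := by
  obtain ⟨s, hs⟩ : ∃ s, s = x (IsLocalRing.closedPoint k) := ⟨_, rfl⟩
  obtain ⟨b, hb⟩ : ∃ b : Spec (S.residueField s) ⟶ S, b = S.fromSpecResidueField s := ⟨_, rfl⟩
  obtain ⟨c, hc⟩ : ∃ c : Spec (CommRingCat.of k) ⟶ Spec (S.residueField s), c ≫ S.fromSpecResidueField s = x := by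
    subst hs
    exact ⟨_, Scheme.descResidueField_stalkClosedPointTo_fromSpecResidueField k S x⟩
  let b' : Spec (CommRingCat.of (S.residueField s)) ⟶ S := S.fromSpecResidueField s
  let c' : Spec (CommRingCat.of k) ⟶ Spec (CommRingCat.of (S.residueField s)) := c
  have hc' : c' ≫ b' = x := hc
  have h1 : ConnectedSpace (Red.bc b' N).left := by
    have h2 : ConnectedSpace ↥(N.hom ⁻¹' {s}) := isConnected_iff_connectedSpace.1 (h s)
    exact (N.hom.fiberHomeo s).symm.surjective.connectedSpace (N.hom.fiberHomeo s).symm.continuous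
  have h3 : ConnectedSpace (Red.bc c' (Red.bc b' N)).left :=
    Groth.Agent.Agf.H614.FieldGlue.connectedSpace_bc (k := S.residueField s) (Red.bc b' N) c'
  exact connectedSpace_iso (tower hc' N).symm h3

/-- **Specialization of unipotent subgroups.** -/
theorem exists_special (R L k : Type u) [CommRing R] [IsDomain R] [IsDiscreteValuationRing R] [Field L]
    [Algebra R L] [IsFractionRing R L] [Field k] [PerfectField k] (ψ : R →+* k)
    (G : Over (Spec (CommRingCat.of R))) [GrpObj G]
    [LocallyOfFiniteType G.hom] (A : Over (Spec (CommRingCat.of L))) [GrpObj A]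
    (a : A ⟶ Red.bc (gen R L) G) [IsMonHom a] [IsClosedImmersion a.left] [ConnectedSpace A.left]
    [IsAffine A.left] [Smooth A.hom] (hA : Red.HasNoSubtorus L A) :
    ∃ (U : Over (Spec (CommRingCat.of k))) (_ : GrpObj U) (i : U ⟶ Red.bc (sp ψ) G),
      IsMonHom i ∧ IsClosedImmersion i.left ∧ Smooth U.hom ∧ IsAffine U.left ∧ ConnectedSpace ↥U.left ∧
      Red.HasNoSubtorus k U ∧ topologicalKrullDim ↥U.left = topologicalKrullDim ↥A.left := by
  obtain ⟨N, _, i, e, hi, him, hfl, hlfp, hqc, hsep, hfc, hNa, -⟩ := Clos.exists_connected R L G A a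
  have hNaff : IsAffine N.left := hNa inferInstance
  have h2 : LocallyOfFiniteType (Red.bc (sp ψ) G).hom :=
    inferInstanceAs (LocallyOfFiniteType (pullback.snd G.hom (sp ψ)))
  have h3 : LocallyOfFiniteType (Red.bc (sp ψ) N).hom :=
    inferInstanceAs (LocallyOfFiniteType (pullback.snd N.hom (sp ψ)))
  have h4 : QuasiCompact (Red.bc (sp ψ) N).hom :=
    inferInstanceAs (QuasiCompact (pullback.snd N.hom (sp ψ)))
  have h5 : IsLocallyNoetherian (Red.bc (sp ψ) N).left :=
    LocallyOfFiniteType.isLocallyNoetherian (Red.bc (sp ψ) N).hom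
  have h6 : CompactSpace (Red.bc (sp ψ) N).left := QuasiCompact.compactSpace_of_compactSpace (Red.bc (sp ψ) N).hom
  have h7 : IsNoetherian (Red.bc (sp ψ) N).left := ⟨⟩
  have h8 : Mono i := (Over.forget _).mono_of_mono_map (inferInstanceAs (Mono i.left))
  have h9 : Mono ((Over.pullback (sp ψ)).map i) := inferInstance
  have h10 : QuasiCompact ((Over.pullback (sp ψ)).map i).left := inferInstance
  have h11 : IsClosedImmersion ((Over.pullback (sp ψ)).map i).left :=
    Groth.Agent.S3036.result k _ _ ((Over.pullback (sp ψ)).map i)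
  obtain ⟨D, _, d, hd1, hd2, hd3, hDsm⟩ := exists_reduced (Red.bc (sp ψ) N)
  have hNaff0 : IsAffine (Red.bc (sp ψ) N).left := inferInstanceAs (IsAffine (pullback N.hom (sp ψ)))
  -- connectedness
  have hconn0 : ConnectedSpace (Red.bc (sp ψ) N).left := connectedSpace_bc_of_fibre N (sp ψ) hfc
  have hconnD : ConnectedSpace D.left := by
    have h : Topology.IsClosedEmbedding d.left := d.left.isClosedEmbedding
    have h2 : IsHomeomorph d.left := (isHomeomorph_iff_continuous_isClosedMap_bijective).2
      ⟨d.left.continuous, h.isClosedMap, h.injective, d.left.surjective⟩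
    exact (h2.homeomorph).symm.surjective.connectedSpace (h2.homeomorph).symm.continuous
  -- subtori
  let Lb := AlgebraicClosure L
  let kb := AlgebraicClosure k
  have hsub : Red.HasNoSubtorus k (Red.bc (sp ψ) N) := by
    refine hasNoSubtorus_of_bc (algebraMap k kb) _ ?_
    let e2 : Grp.mk (Red.bc (sp (algebraMap L Lb)) A) ≅ Grp.mk (Red.bc (sp ((algebraMap L Lb).comp (algebraMap R L))) N) :=
      Sga3B.BcIso.bcMapIso (sp (algebraMap L Lb)) e ≪≫ (tower (sp_comp (algebraMap R L) (algebraMap L Lb)) N).symm
    have hs1 : Smooth (Red.bc (sp (algebraMap L Lb)) A).hom :=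
      inferInstanceAs (Smooth (pullback.snd A.hom (sp (algebraMap L Lb))))
    have hs2 : ConnectedSpace (Red.bc (sp (algebraMap L Lb)) A).left :=
      Groth.Agent.Agf.H614.FieldGlue.connectedSpace_bc A (sp (algebraMap L Lb))
    have hs3 : Red.HasNoSubtorus Lb (Red.bc (sp (algebraMap L Lb)) A) :=
      K540.NoTor.hasNoSubtorus_of_noTor (K540.NoTor.noTor_bc _ (K414.UnipTor.noTor_of_hasNoSubtorus A hA))
    have h := Unip.good_noSubtorus.spec R Lb kb ((algebraMap L Lb).comp (algebraMap R L))
      ((algebraMap k kb).comp ψ) ((algebraMap L Lb).injective.comp (IsFractionRing.injective R L)) N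
      (fun _ => hNaff) (smooth_iso e2 hs1) (connectedSpace_iso e2 hs2) (Unip.good_noSubtorus.iso e2 hs3)
    exact Unip.good_noSubtorus.iso (tower (sp_comp ψ (algebraMap k kb)) N) h
  refine ⟨D, inferInstance, d ≫ (Over.pullback (sp ψ)).map i, inferInstance, ?_, hDsm, ?_, hconnD, ?_, ?_⟩
  · rw [Over.comp_left]
    infer_instance
  · exact isAffine_of_isAffineHom d.left
  · intro T _ j _ _ hT
    have := mono_of_closed d
    exact hsub T (j ≫ d) hT
  · rw [dim_surj d, ← Dim.dim_eq N (sp (algebraMap R L)) (sp ψ)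
      (Dim.specializes_of_injective _ (IsFractionRing.injective R L) _)]
    exact (dim_iso e).symm

end AlgGrp.K202.SpecUnip
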